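import Cfsg.Prelude.Def_Transfer
import Cfsg.Agent.Thompson.Basic
import Cfsg.Agent.Core.Frattini
import Cfsg.Agent.Core.Basics

/-!
# Elementary abelian subgroups next to a large normal one
-/

set_option autoImplicit false

open Cfsg Subgroup

namespace Cfsg.Agent.RankChain

variable {X : Type*} [Group X] [Finite X] {E A : Subgroup X}

/-- An involution fixes at least the square root of an elementary abelian group it normalises. -/
theorem card_le_fix_sq {S : Subgroup X} (hS : IsElementaryAbelian 2 S) {a : X} (ha : a * a = 1)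
    (hn : ∀ s ∈ S, a * s * a ∈ S) :
    Nat.card S ≤ Nat.card (S ⊓ centralizer ({a} : Set X) : Subgroup X) ^ 2 := by
  have hcomm : ∀ s ∈ S, ∀ t ∈ S, s * t = t * s := fun s hs t ht =>
    congrArg Subtype.val (hS.1.is_comm.comm (⟨s, hs⟩ : S) ⟨t, ht⟩)
  have haa : ∀ x : X, a * (a * x) = x := fun x => by rw [← mul_assoc, ha, one_mul]
  let f : S →* X := MonoidHom.mk' (fun s => (s : X) * (a * (s : X) * a)) fun s t => by
    show (s : X) * t * (a * (s * t) * a) = s * (a * s * a) * (t * (a * t * a))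
    calc (s : X) * t * (a * (s * t) * a) = s * (t * (a * s * a)) * (a * t * a) := by
          simp only [mul_assoc, haa]
      _ = _ := by rw [hcomm t t.2 _ (hn s s.2)]; simp only [mul_assoc]
  have hker : Nat.card f.ker ≤ Nat.card (S ⊓ centralizer ({a} : Set X) : Subgroup X) := by
    refine Nat.card_le_card_of_injective (fun x => (⟨(x.1 : X), x.1.2, ?_⟩ : (S ⊓ centralizer ({a} : Set X) : Subgroup X))) ?_
    · have h : (x.1 : X) * (a * x.1 * a) = 1 := x.2
      have h2 : (x.1 : X) * x.1 = 1 := by rw [← sq]; exact hS.2 _ x.1.2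
      have h3 : a * (x.1 : X) * a = x.1 := mul_left_cancel (h.trans h2.symm)
      refine mem_centralizer_singleton_iff.2 ?_
      conv_lhs => rw [← h3]
      rw [mul_assoc, ha, mul_one]
    · intro x y h
      exact Subtype.ext (Subtype.ext (congrArg Subtype.val h :))
  have hrange : Nat.card f.range ≤ Nat.card (S ⊓ centralizer ({a} : Set X) : Subgroup X) := by
    refine Nat.card_le_card_of_injective (fun x => (⟨(x : X), ?_, ?_⟩ : (S ⊓ centralizer ({a} : Set X) : Subgroup X))) ?_
    · obtain ⟨s, hs⟩ := x.2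
      rw [← hs]
      exact mul_mem s.2 (hn s s.2)
    · obtain ⟨s, hs⟩ := x.2
      refine mem_centralizer_singleton_iff.2 ?_
      rw [← hs]
      show (s : X) * (a * s * a) * a = a * (s * (a * s * a))
      conv_lhs => rw [hcomm _ s.2 _ (hn s s.2)]
      simp only [mul_assoc, haa]
    · intro x y h
      exact Subtype.ext (congrArg Subtype.val h :)
  calc Nat.card S = f.ker.index * Nat.card f.ker := (f.ker.index_mul_card).symm
    _ = Nat.card f.range * Nat.card f.ker := by rw [Subgroup.index_ker]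
    _ ≤ _ := by rw [sq]; exact Nat.mul_le_mul hrange hker

omit [Finite X] in
/-- Adjoining a commuting involution doubles the order. -/
theorem card_sup_zpowers {K : Subgroup X} {a : X} (hc : ∀ k ∈ K, k * a = a * k) (ha : a * a = 1)
    (haK : a ∉ K) : Nat.card (K ⊔ zpowers a : Subgroup X) = Nat.card K * 2 := by
  let L : Subgroup X :=
    { carrier := {x | x ∈ K ∨ x * a ∈ K}
      mul_mem' := by
        rintro x y (hx | hx) (hy | hy)
        · exact Or.inl (mul_mem hx hy)
        · exact Or.inr (by rw [mul_assoc]; exact mul_mem hx hy)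
        · refine Or.inr ?_
          rw [mul_assoc, hc y hy, ← mul_assoc]
          exact mul_mem hx hy
        · refine Or.inl ?_
          have h := mul_mem hx hy
          rwa [mul_assoc x a, ← hc _ hy, mul_assoc y a a, ha, mul_one] at h
      one_mem' := Or.inl (one_mem K)
      inv_mem' := by
        rintro x (hx | hx)
        · exact Or.inl (inv_mem hx)
        · refine Or.inr ?_
          have h := inv_mem hx
          rw [mul_inv_rev, inv_eq_of_mul_eq_one_right ha] at h
          have h2 := hc _ h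
          rw [show a * (a * x⁻¹) = x⁻¹ by rw [← mul_assoc, ha, one_mul]] at h2
          have h3 := hc _ h
          have e : x⁻¹ * a = a * (a * x⁻¹) * a := by rw [← mul_assoc a a, ha, one_mul]
          rw [e, mul_assoc a (a * x⁻¹) a, hc _ h, ← mul_assoc, ha, one_mul]
          exact h }
  have hKL : K ≤ L := fun x hx => Or.inl hx
  have heq : K ⊔ zpowers a = L := by
    refine le_antisymm (sup_le hKL (zpowers_le.2 (Or.inr (by rw [ha]; exact one_mem K)))) ?_
    rintro x (hx | hx)
    · exact le_sup_left (b := zpowers a) hx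
    · have h := mul_mem (le_sup_left (b := zpowers a) hx) (le_sup_right (a := K) (mem_zpowers a))
      rwa [mul_assoc, ha, mul_one] at h
  have hidx : (K.subgroupOf L).index = 2 := by
    refine index_eq_two_iff.2 ⟨⟨a, Or.inr (by rw [ha]; exact one_mem K)⟩, fun b => ?_⟩
    simp only [mem_subgroupOf, coe_mul]
    rcases b.2 with h | h
    · refine Or.inr ⟨h, fun h' => haK ?_⟩
      have := mul_mem (inv_mem h) h'
      rwa [inv_mul_cancel_left] at this
    · refine Or.inl ⟨h, fun h' => haK ?_⟩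
      have := mul_mem (inv_mem h') h
      rwa [inv_mul_cancel_left] at this
  rw [heq, ← (K.subgroupOf L).card_mul_index, hidx,
    Nat.card_congr (subgroupOfEquivOfLe hKL).toEquiv]

variable [E.Normal] (hE : IsElementaryAbelian 2 E)

include hE

/-- Centralisers shrink at most by repeated square roots. -/
theorem card_fix_le (hA : IsElementaryAbelian 2 A) : ∀ r : ℕ, ∀ K ≤ A,
    Nat.card K * 2 ^ r = Nat.card A →
      Nat.card (E ⊓ centralizer (K : Set X) : Subgroup X) ≤
        Nat.card (E ⊓ centralizer (A : Set X) : Subgroup X) ^ (2 ^ r) := by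
  intro r
  induction r with
  | zero =>
    intro K hK h
    rw [pow_zero, mul_one] at h
    rw [Subgroup.eq_of_le_of_card_ge hK h.ge, pow_zero, pow_one]
  | succ r ih =>
    intro K hK h
    have hne : K ≠ A := by
      rintro rfl
      have := Nat.card_pos (α := K)
      have h1 : 1 < 2 ^ (r + 1) := Nat.one_lt_two_pow (by omega)
      nlinarith
    obtain ⟨a, haA, haK⟩ := SetLike.exists_of_lt (lt_of_le_of_ne hK hne)
    set K' := K ⊔ zpowers a
    have hK' : K' ≤ A := sup_le hK (zpowers_le.2 haA)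
    have haa : a * a = 1 := by rw [← sq]; exact hA.2 a haA
    have hcard : Nat.card K' = Nat.card K * 2 := card_sup_zpowers
      (fun k hk => (mem_centralizer_iff.1 ((Thompson.ea_iff.1 hA).1 haA) k (hK hk))) haa haK
    have h' : Nat.card K' * 2 ^ r = Nat.card A := by rw [hcard, ← h, pow_succ]; ring
    set S := E ⊓ centralizer (K : Set X)
    have hS : IsElementaryAbelian 2 S := Thompson.ea_mono hE inf_le_left
    have hSn : ∀ s ∈ S, a * s * a ∈ S := by
      rintro s ⟨hs1, hs2⟩
      refine ⟨?_, mem_centralizer_iff.2 fun k hk => ?_⟩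
      · have := (inferInstance : E.Normal).conj_mem s hs1 a
        rwa [inv_eq_of_mul_eq_one_right haa] at this
      · have hka : k * a = a * k :=
          mem_centralizer_iff.1 ((Thompson.ea_iff.1 hA).1 haA) k (hK hk)
        have hks : k * s = s * k := mem_centralizer_iff.1 hs2 k hk
        rw [← mul_assoc, ← mul_assoc, hka, mul_assoc a k s, hks, ← mul_assoc, mul_assoc _ k a, hka,
          ← mul_assoc]
    have hfix : S ⊓ centralizer ({a} : Set X) = E ⊓ centralizer (K' : Set X) := by
      rw [show (S ⊓ centralizer ({a} : Set X)) = E ⊓ (centralizer (K : Set X) ⊓ centralizer ({a} : Set X))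
        from inf_assoc _ _ _]
      congr 1
      refine le_antisymm ?_ (le_inf (centralizer_le (le_sup_left : K ≤ K'))
        (centralizer_le (Set.singleton_subset_iff.2 (le_sup_right (a := K) (mem_zpowers a)))))
      intro x hx
      rw [mem_centralizer_iff]
      intro y hy
      have : K' ≤ centralizer ({x} : Set X) := by
        refine sup_le (fun k hk => mem_centralizer_singleton_iff.2 (mem_centralizer_iff.1 hx.1 k hk)) ?_
        rw [zpowers_le, mem_centralizer_singleton_iff]
        exact (mem_centralizer_singleton_iff.1 hx.2).symm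
      exact mem_centralizer_singleton_iff.1 (this hy)
    calc Nat.card S ≤ Nat.card (S ⊓ centralizer ({a} : Set X) : Subgroup X) ^ 2 :=
          card_le_fix_sq hS haa hSn
      _ ≤ (Nat.card (E ⊓ centralizer (A : Set X) : Subgroup X) ^ (2 ^ r)) ^ 2 := by
          rw [hfix]
          exact Nat.pow_le_pow_left (ih K' hK' h') 2
      _ = _ := by rw [← pow_mul, ← pow_succ]

/-- A small elementary abelian subgroup outside a large normal one is centralised by more of it. -/
theorem exists_extra {n m : ℕ} (hA : IsElementaryAbelian 2 A) (hAcard : Nat.card A = 2 ^ n)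
    (hEcard : 2 ^ m ≤ Nat.card E) (hm : ∀ i < n, i * 2 ^ (n - i) < m) (hAE : ¬ A ≤ E) :
    ∃ e ∈ E, e ∉ A ∧ e ∈ centralizer (A : Set X) := by
  by_contra hc
  push Not at hc
  obtain ⟨i, hin, hi⟩ : ∃ i ≤ n, Nat.card (A ⊓ E : Subgroup X) = 2 ^ i :=
    (Nat.dvd_prime_pow Nat.prime_two).1 (hAcard ▸ card_dvd_of_le inf_le_left)
  have hlt : i < n := by
    refine lt_of_le_of_ne hin fun h => hAE ?_
    have := Subgroup.eq_of_le_of_card_ge (inf_le_left : A ⊓ E ≤ A) (by rw [hi, hAcard, h])
    exact this ▸ inf_le_right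
  have h := card_fix_le hE hA (n - i) (A ⊓ E) inf_le_left
    (by rw [hi, hAcard, ← pow_add, Nat.add_sub_cancel' hin])
  have htop : E ⊓ centralizer ((A ⊓ E : Subgroup X) : Set X) = E :=
    inf_eq_left.2 ((Thompson.ea_iff.1 hE).1.trans (centralizer_le inf_le_right))
  have hle : E ⊓ centralizer (A : Set X) ≤ A ⊓ E := fun x hx =>
    ⟨by_contra fun hxA => hc x hx.1 hxA hx.2, hx.1⟩
  rw [htop] at h
  have h2 := h.trans (Nat.pow_le_pow_left (Subgroup.card_le_of_le hle) _)
  rw [hi, ← pow_mul] at h2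
  exact absurd ((Nat.pow_le_pow_iff_right (by norm_num)).1 (hEcard.trans h2)) (not_le.2 (hm i hlt))

/-- A commuting neighbour meeting the normal subgroup in more. -/
theorem exists_step {n m : ℕ} (hA : IsElementaryAbelian 2 A) (hAcard : Nat.card A = 2 ^ n)
    (hEcard : 2 ^ m ≤ Nat.card E) (hm : ∀ i < n, i * 2 ^ (n - i) < m) (hAE : ¬ A ≤ E) :
    ∃ B : Subgroup X, IsElementaryAbelian 2 B ∧ Nat.card B = 2 ^ n ∧
      (∀ a ∈ A, ∀ b ∈ B, a * b = b * a) ∧
        Nat.card (A ⊓ E : Subgroup X) < Nat.card (B ⊓ E : Subgroup X) := by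
  obtain ⟨e, heE, heA, heC⟩ := exists_extra hE hA hAcard hEcard hm hAE
  have := Fact.mk Nat.prime_two
  have hne : (A ⊓ E).subgroupOf A ≠ ⊤ := by
    rw [ne_eq, Subgroup.subgroupOf_eq_top]
    exact fun h => hAE (h.trans inf_le_right)
  obtain ⟨M, hM, hle⟩ := (eq_top_or_exists_le_coatom ((A ⊓ E).subgroupOf A)).resolve_left hne
  have hidx : M.index = 2 :=
    (Core.index_eq_of_isCoatom (IsPGroup.of_card (n := n) hAcard) hM).2
  set A₁ := M.map A.subtype with hA₁
  have hA₁A : A₁ ≤ A := map_subtype_le M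
  have hA₁E : A ⊓ E ≤ A₁ := fun x hx => ⟨⟨x, hx.1⟩, hle hx, rfl⟩
  have hcard₁ : Nat.card A₁ * 2 = 2 ^ n := by
    rw [hA₁, ← Nat.card_congr (equivMapOfInjective M _ A.subtype_injective).toEquiv, ← hAcard,
      ← M.card_mul_index, hidx]
  have hee : e * e = 1 := by rw [← sq]; exact hE.2 e heE
  have hord : orderOf e = 2 := orderOf_eq_prime (hE.2 e heE) fun h => heA (h ▸ one_mem A)
  have hez : IsElementaryAbelian 2 (zpowers e) := by
    rw [zpowers_eq_closure]
    refine Thompson.ea_closure ?_ fun x hx => ?_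
    · intro x hx
      rw [Set.mem_singleton_iff.1 hx]
      exact mem_centralizer_singleton_iff.2 rfl
    · rw [Set.mem_singleton_iff.1 hx]; exact hE.2 e heE
  have hcomm : A₁ ≤ centralizer (zpowers e : Set X) :=
    le_centralizer_iff.1 ((zpowers_le.2 heC).trans (centralizer_le hA₁A))
  refine ⟨A₁ ⊔ zpowers e, Thompson.ea_sup (Thompson.ea_mono hA hA₁A) hez hcomm, ?_, ?_, ?_⟩
  · rw [card_sup_zpowers (fun a ha => mem_centralizer_iff.1 heC a (hA₁A ha)) hee
      fun h => heA (hA₁A h), hcard₁]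
  · have hB : A₁ ⊔ zpowers e ≤ centralizer (A : Set X) :=
      sup_le (hA₁A.trans (Thompson.ea_iff.1 hA).1) (zpowers_le.2 heC)
    exact fun a ha b hb => mem_centralizer_iff.1 (hB hb) a ha
  · refine Core.card_lt_of_lt (lt_of_le_not_ge ?_ ?_)
    · exact fun x hx => ⟨le_sup_left (b := zpowers e) (hA₁E hx), hx.2⟩
    · exact fun h => heA (h ⟨le_sup_right (a := A₁) (mem_zpowers e), heE⟩).1

/-- Chains. -/
theorem exists_chain {n m : ℕ} (hEcard : 2 ^ m ≤ Nat.card E) (hm : ∀ i < n, i * 2 ^ (n - i) < m)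
    (hA : IsElementaryAbelian 2 A) (hAcard : Nat.card A = 2 ^ n) :
    ∃ B : Subgroup X, B ≤ E ∧ IsElementaryAbelian 2 B ∧ Nat.card B = 2 ^ n ∧
      Relation.ReflTransGen (fun C D : Subgroup X => (IsElementaryAbelian 2 C ∧ Nat.card C = 2 ^ n) ∧
        (IsElementaryAbelian 2 D ∧ Nat.card D = 2 ^ n) ∧ ∀ c ∈ C, ∀ d ∈ D, c * d = d * c) A B := by
  suffices ∀ k (A : Subgroup X), IsElementaryAbelian 2 A → Nat.card A = 2 ^ n →
      2 ^ n - Nat.card (A ⊓ E : Subgroup X) = k → ∃ B : Subgroup X, B ≤ E ∧ IsElementaryAbelian 2 B ∧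
        Nat.card B = 2 ^ n ∧ Relation.ReflTransGen (fun C D : Subgroup X =>
          (IsElementaryAbelian 2 C ∧ Nat.card C = 2 ^ n) ∧
          (IsElementaryAbelian 2 D ∧ Nat.card D = 2 ^ n) ∧ ∀ c ∈ C, ∀ d ∈ D, c * d = d * c) A B from
    this _ A hA hAcard rfl
  intro k
  induction k using Nat.strong_induction_on with
  | _ k ih =>
    intro A hA hAcard hk
    by_cases hAE : A ≤ E
    · exact ⟨A, hAE, hA, hAcard, Relation.ReflTransGen.refl⟩
    obtain ⟨B, hB, hBcard, hcomm, hlt⟩ := exists_step hE hA hAcard hEcard hm hAE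
    have hle : Nat.card (B ⊓ E : Subgroup X) ≤ 2 ^ n := hBcard ▸ Subgroup.card_le_of_le inf_le_left
    obtain ⟨C, h1, h2, h3, h4⟩ := ih _ (by omega) B hB hBcard rfl
    exact ⟨C, h1, h2, h3, Relation.ReflTransGen.head ⟨⟨hA, hAcard⟩, ⟨hB, hBcard⟩, hcomm⟩ h4⟩

/-- Any two are joined. -/
theorem connected {n m : ℕ} (hEcard : 2 ^ m ≤ Nat.card E) (hm : ∀ i < n, i * 2 ^ (n - i) < m)
    (hA : IsElementaryAbelian 2 A) (hAcard : Nat.card A = 2 ^ n) {B : Subgroup X}
    (hB : IsElementaryAbelian 2 B) (hBcard : Nat.card B = 2 ^ n) :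
    Relation.ReflTransGen (fun C D : Subgroup X => (IsElementaryAbelian 2 C ∧ Nat.card C = 2 ^ n) ∧
        (IsElementaryAbelian 2 D ∧ Nat.card D = 2 ^ n) ∧ ∀ c ∈ C, ∀ d ∈ D, c * d = d * c) A B := by
  obtain ⟨A', a1, a2, a3, a4⟩ := exists_chain hE hEcard hm hA hAcard
  obtain ⟨B', b1, b2, b3, b4⟩ := exists_chain hE hEcard hm hB hBcard
  refine (a4.tail ⟨⟨a2, a3⟩, ⟨b2, b3⟩, fun c hc d hd => ?_⟩).trans ?_
  · exact mem_centralizer_iff.1 ((Thompson.ea_iff.1 hE).1 (b1 hd)) c (a1 hc)
  · clear b1 b2 b3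
    induction b4 with
    | refl => exact Relation.ReflTransGen.refl
    | tail _ h ih =>
      exact Relation.ReflTransGen.head ⟨h.2.1, h.1, fun c hc d hd => (h.2.2 d hd c hc).symm⟩ ih

end Cfsg.Agent.RankChain
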